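import Groth.Prelude.Def_GrSeg
import Groth.Agent.GrMod19.Positive
import Groth.Agent.GrMod19.StarMax
import Mathlib.RingTheory.FiniteType
import Mathlib.LinearAlgebra.Dual.Lemmas
import Mathlib.RingTheory.Artinian.Module
import Mathlib.RingTheory.Polynomial.Basic

/-!
Graded duals over a field.
-/

universe u

open DirectSum GrLC
open Groth.Agent.GrMod19 (cmp cmp_mem cmp_of_mem cmp_of_ne piece_induction NonnegGr)

namespace Groth.Agent.GrDual19

set_option autoImplicit false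

variable {k : Type u} [Field k] {R : Type u} [CommRing R] [Algebra k R] {𝒜 : ℤ → Submodule k R}
  [GradedAlgebra 𝒜]
  {M : Type u} [AddCommGroup M] [Module R M] [Module k M] [IsScalarTower k R M]
  {ℳ : ℤ → AddSubgroup M} [Decomposition ℳ] [SetLike.GradedSMul 𝒜 ℳ]

omit [GradedAlgebra 𝒜] in
theorem nonnegGr_of_bot (hposR : ∀ n : ℤ, n < 0 → 𝒜 n = ⊥) : NonnegGr 𝒜 := fun n hn x hx => by
  rw [hposR n hn] at hx
  exact hx

omit [Decomposition ℳ] in
theorem smul_k_mem [SetLike.GradedOne 𝒜] {n : ℤ} {x : M} (hx : x ∈ ℳ n) (c : k) : c • x ∈ ℳ n := by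
  rw [← algebraMap_smul R c x, Algebra.algebraMap_eq_smul_one]
  have h := SetLike.GradedSMul.smul_mem (A := 𝒜) (B := ℳ)
    ((𝒜 0).smul_mem c (SetLike.GradedOne.one_mem (A := 𝒜))) hx
  rwa [vadd_eq_add, zero_add] at h

variable (𝒜 ℳ) in
/-- a piece as a vector space -/
def kPiece [SetLike.GradedOne 𝒜] (n : ℤ) : Submodule k M where
  carrier := ℳ n
  add_mem' := add_mem
  zero_mem' := zero_mem _
  smul_mem' c _ hx := smul_k_mem (𝒜 := 𝒜) hx c

omit [Decomposition ℳ] in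
theorem mem_kPiece {n : ℤ} {x : M} : x ∈ kPiece 𝒜 ℳ n ↔ x ∈ ℳ n := Iff.rfl

variable (𝒜) in
include 𝒜 in
theorem cmp_smul_k (c : k) (n : ℤ) (x : M) : cmp ℳ n (c • x) = c • cmp ℳ n x := by
  induction x using piece_induction ℳ with
  | h0 => simp
  | hadd a b ha hb => rw [smul_add, map_add, map_add, ha, hb, smul_add]
  | hp j x hx =>
    rcases eq_or_ne j n with rfl | h
    · rw [cmp_of_mem ℳ hx, cmp_of_mem ℳ (smul_k_mem (𝒜 := 𝒜) hx c)]
    · rw [cmp_of_ne ℳ hx h, cmp_of_ne ℳ (smul_k_mem (𝒜 := 𝒜) hx c) h, smul_zero]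

variable (𝒜 ℳ) in
/-- the component, linearly -/
def cmpₗ (n : ℤ) : M →ₗ[k] M where
  toFun := cmp ℳ n
  map_add' := map_add _
  map_smul' c x := cmp_smul_k 𝒜 c n x

/-- the pieces of a finite module are finite-dimensional -/
theorem kPiece_finite [Algebra.FiniteType k R] (hpos : NonnegGr 𝒜) (h0R : 𝒜 0 = Submodule.span k {(1 : R)})
    [Module.Finite R M] (n : ℤ) : Module.Finite k (kPiece 𝒜 ℳ n) := by
  classical
  have : IsNoetherianRing R := Algebra.FiniteType.isNoetherianRing k R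
  have hfin := GrMod19.finite_comp (𝒜 := 𝒜) hpos (GrMod19.isPlus_irrel hpos) ℳ n
  obtain ⟨s, hs⟩ := Module.Finite.iff_fg.1 hfin
  refine Module.Finite.iff_fg.2 ⟨s, le_antisymm (Submodule.span_le.2 fun x hx => ?_) fun x hx => ?_⟩
  · have h1 : x ∈ GrLC.comp 𝒜 ℳ n := hs ▸ Submodule.subset_span hx
    exact h1
  · have h1 : x ∈ Submodule.span (GrLC.deg0 𝒜) (s : Set M) := by rw [hs]; exact hx
    clear hx
    induction h1 using Submodule.span_induction with
    | mem y hy => exact Submodule.subset_span hy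
    | zero => exact zero_mem _
    | add y z _ _ hy hz => exact add_mem hy hz
    | smul c y _ hy =>
      obtain ⟨e, he⟩ := Submodule.mem_span_singleton.1 (h0R ▸ c.2 : (c : R) ∈ Submodule.span k {(1 : R)})
      show (c : R) • y ∈ _
      rw [← he, smul_assoc, one_smul]
      exact Submodule.smul_mem _ _ hy

variable {D : Type u} [AddCommGroup D] [Module R D] [Module k D] [IsScalarTower k R D]
  {𝒟 : ℤ → AddSubgroup D} [Decomposition 𝒟] [SetLike.GradedSMul 𝒜 𝒟] {τ : Type u} [SetLike τ M]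
  [AddSubgroupClass τ M] {𝒩 : ℤ → τ} [Decomposition 𝒩] {β : D →ₗ[k] M →ₗ[k] k}

omit [GradedAlgebra 𝒜] [SetLike.GradedSMul 𝒜 𝒟] in
theorem beta_cmp (hD : GrSeg.IsGDual R 𝒩 𝒟 β) {n : ℤ} (d : D) {x : M} (hx : x ∈ 𝒩 (-n)) :
    β d x = β (cmp 𝒟 n d) x := by
  induction d using piece_induction 𝒟 with
  | h0 => simp
  | hadd a b ha hb => rw [map_add, map_add, map_add, LinearMap.add_apply, LinearMap.add_apply, ha, hb]
  | hp j d hd =>
    rcases eq_or_ne j n with rfl | h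
    · rw [cmp_of_mem 𝒟 hd]
    · rw [cmp_of_ne 𝒟 hd h, hD.vanish j d hd (-n) (by omega) x hx, map_zero, LinearMap.zero_apply]

omit [GradedAlgebra 𝒜] [SetLike.GradedSMul 𝒜 𝒟] in
theorem beta_cmp_right (hD : GrSeg.IsGDual R 𝒩 𝒟 β) {n : ℤ} {d : D} (hd : d ∈ 𝒟 n) (x : M) :
    β d x = β d (cmp 𝒩 (-n) x) := by
  induction x using piece_induction 𝒩 with
  | h0 => simp
  | hadd a b ha hb => rw [map_add, map_add, map_add, ha, hb]
  | hp j x hx =>
    rcases eq_or_ne j (-n) with rfl | h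
    · rw [cmp_of_mem 𝒩 hx]
    · rw [cmp_of_ne 𝒩 hx h, hD.vanish n d hd j h x hx, map_zero]

omit [GradedAlgebra 𝒜] [SetLike.GradedSMul 𝒜 𝒟] in
theorem eq_of_beta (hD : GrSeg.IsGDual R 𝒩 𝒟 β) {d d' : D} (h : ∀ j, ∀ x ∈ 𝒩 j, β d x = β d' x) : d = d' := by
  refine GrMod19.eq_of_cmp 𝒟 fun n => sub_eq_zero.1 (hD.eq_zero n _ (sub_mem (cmp_mem 𝒟 n d) (cmp_mem 𝒟 n d'))
    fun x hx => ?_)
  rw [map_sub, LinearMap.sub_apply, ← beta_cmp hD d hx, ← beta_cmp hD d' hx, h _ x hx, sub_self]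

omit [GradedAlgebra 𝒜] [SetLike.GradedSMul 𝒜 𝒟] in
theorem beta_injective (hD : GrSeg.IsGDual R 𝒩 𝒟 β) : Function.Injective β :=
  fun _ _ h => eq_of_beta hD fun _ x _ => by rw [h]

omit [GradedAlgebra 𝒜] [SetLike.GradedSMul 𝒜 𝒟] in
theorem mem_of_vanish (hD : GrSeg.IsGDual R 𝒩 𝒟 β) {n : ℤ} {d : D}
    (h : ∀ j, j ≠ -n → ∀ x ∈ 𝒩 j, β d x = 0) : d ∈ 𝒟 n := by
  have h1 : d = cmp 𝒟 n d := eq_of_beta hD fun j x hx => by
    rcases eq_or_ne j (-n) with rfl | hj
    · exact beta_cmp hD d hx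
    · rw [h j hj x hx, hD.vanish n _ (cmp_mem 𝒟 n d) j hj x hx]
  rw [h1]
  exact cmp_mem 𝒟 n d

omit [GradedAlgebra 𝒜] [SetLike.GradedSMul 𝒜 𝒟] in
theorem exists_beta_eq (hD : GrSeg.IsGDual R 𝒩 𝒟 β) {n : ℤ} (L : M →ₗ[k] k)
    (h : ∀ j, j ≠ -n → ∀ x ∈ 𝒩 j, L x = 0) : ∃ d ∈ 𝒟 n, β d = L := by
  obtain ⟨d, hd, hdx⟩ := hD.exists_eq n L
  refine ⟨d, hd, LinearMap.ext fun x => ?_⟩
  induction x using piece_induction 𝒩 with
  | h0 => simp
  | hadd a b ha hb => rw [map_add, map_add, ha, hb]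
  | hp j x hx =>
    rcases eq_or_ne j (-n) with rfl | hj
    · exact hdx x hx
    · rw [h j hj x hx, hD.vanish n d hd j hj x hx]

/-- a functional on one piece of a module gives a map to the dual of the ring -/
theorem exists_lift {E : Type u} [AddCommGroup E] [Module R E] [Module k E] [IsScalarTower k R E]
    {𝓔 : ℤ → AddSubgroup E} [Decomposition 𝓔] [SetLike.GradedSMul 𝒜 𝓔]
    {β : E →ₗ[k] R →ₗ[k] k} (hE : GrSeg.IsGDual R 𝒜 𝓔 β) (L : M →ₗ[k] k) {j : ℤ}
    (hL : ∀ g, g ≠ j → ∀ x ∈ ℳ g, L x = 0) :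
    ∃ h : M →ₗ[R] E, (∀ m r, β (h m) r = L (r • m)) ∧ ∀ g, ∀ m ∈ ℳ g, h m ∈ 𝓔 (g - j) := by
  have hex : ∀ m, ∃ d, ∀ r, β d r = L (r • m) := by
    intro m
    induction m using piece_induction ℳ with
    | h0 => exact ⟨0, fun r => by simp⟩
    | hadd a b ha hb =>
      obtain ⟨d, hd⟩ := ha
      obtain ⟨d', hd'⟩ := hb
      exact ⟨d + d', fun r => by rw [map_add, LinearMap.add_apply, hd, hd', smul_add, map_add]⟩
    | hp g m hm =>
      obtain ⟨d, -, hd⟩ := exists_beta_eq hE (n := g - j) (L ∘ₗ (LinearMap.toSpanSingleton R M m).restrictScalars k)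
        (fun i hi r hr => hL (i + g) (by omega) _ (GrMod19.smul_mem_add 𝒜 ℳ hr hm))
      exact ⟨d, fun r => LinearMap.congr_fun hd r⟩
  choose h hh using hex
  have hinj := beta_injective hE
  refine ⟨{ toFun := h, map_add' := fun a b => hinj (LinearMap.ext fun r => ?_),
            map_smul' := fun c a => hinj (LinearMap.ext fun r => ?_) }, hh, fun g m hm => ?_⟩
  · rw [map_add, LinearMap.add_apply, hh, hh, hh, smul_add, map_add]
  · rw [RingHom.id_apply, hE.map_smul, hh, hh, smul_smul, smul_eq_mul, mul_comm c r]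
  · exact mem_of_vanish hE fun i hi r hr => by
      show β (h m) r = 0
      rw [hh]
      exact hL (i + g) (by omega) _ (GrMod19.smul_mem_add 𝒜 ℳ hr hm)

omit [Module k M] [IsScalarTower k R M] in
/-- a finite module has no pieces in low degrees -/
theorem exists_lower [Algebra.FiniteType k R] (hpos : NonnegGr 𝒜) [Module.Finite R M] :
    ∃ b : ℤ, ∀ n, n < b → ∀ x ∈ ℳ n, x = 0 := by
  have : IsNoetherianRing R := Algebra.FiniteType.isNoetherianRing k R
  obtain ⟨m, deg, g, hg, hspan⟩ := GrMod19.exists_homog_generators 𝒜 ℳ (⊤ : Submodule R M) (fun _ _ _ => trivial)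
    Module.Finite.fg_top
  obtain ⟨b, hb⟩ : ∃ b : ℤ, ∀ i, b ≤ deg i := by
    refine ⟨-∑ i, |deg i|, fun i => ?_⟩
    have h1 := Finset.single_le_sum (f := fun i => |deg i|) (fun i _ => abs_nonneg _) (Finset.mem_univ i)
    have h2 := neg_abs_le (deg i)
    linarith
  refine ⟨b, fun n hn x hx => ?_⟩
  have hx' : x ∈ Submodule.span R (Set.range g) := by rw [hspan]; trivial
  obtain ⟨c, hc⟩ := (Submodule.mem_span_range_iff_exists_fun R).1 hx'
  rw [← cmp_of_mem ℳ hx, ← hc, map_sum]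
  refine Finset.sum_eq_zero fun i _ => ?_
  rw [GrMod19.cmp_smul_homog_right 𝒜 ℳ n (hg i) (c i), hpos _ (by have := hb i; omega) _ (cmp_mem 𝒜 _ (c i)),
    zero_smul]

omit [Module k M] [IsScalarTower k R M] in
/-- a module bounded above is Artinian once its homogeneous submodules satisfy the descending condition -/
theorem isArtinian_of_homogeneous (hpos : NonnegGr 𝒜) {b : ℤ} (hb : ∀ n, b < n → ∀ x ∈ ℳ n, x = 0)
    (hdcc : WellFoundedLT {P : Submodule R M // P.IsHomogeneous ℳ}) : IsArtinian R M := by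
  let low : Submodule R M → ℤ → Set M := fun P n =>
    {y | ∃ p ∈ P, (∀ i, i < n → cmp ℳ i p = 0) ∧ cmp ℳ n p = y}
  let L : Submodule R M → Submodule R M := fun P => Submodule.span R (⋃ n, low P n)
  have hlowmem : ∀ P n, ∀ y ∈ low P n, y ∈ ℳ n := by
    rintro P n _ ⟨p, -, -, rfl⟩
    exact cmp_mem ℳ n p
  have hhom : ∀ P, (L P).IsHomogeneous ℳ := fun P => GrMod19.isHomogeneous_span (𝒜 := 𝒜) ℳ fun y hy => by
    obtain ⟨n, hn⟩ := Set.mem_iUnion.1 hy
    exact ⟨n, hlowmem P n y hn⟩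
  have hlow : ∀ P n, ∀ y ∈ L P, cmp ℳ n y ∈ low P n := by
    intro P n y hy
    induction hy using Submodule.span_induction generalizing n with
    | mem y hy =>
      obtain ⟨i, hi⟩ := Set.mem_iUnion.1 hy
      rcases eq_or_ne i n with rfl | h
      · rwa [cmp_of_mem ℳ (hlowmem P i y hi)]
      · rw [cmp_of_ne ℳ (hlowmem P i y hi) h]
        exact ⟨0, P.zero_mem, by simp, map_zero _⟩
    | zero => exact ⟨0, P.zero_mem, by simp, by simp⟩
    | add y z _ _ hy hz =>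
      obtain ⟨p, hp, hp', hpy⟩ := hy n
      obtain ⟨p', hq, hq', hqz⟩ := hz n
      exact ⟨p + p', P.add_mem hp hq, fun i hi => by rw [map_add, hp' i hi, hq' i hi, add_zero],
        by rw [map_add, map_add, hpy, hqz]⟩
    | smul c y _ hy =>
      induction c using piece_induction 𝒜 with
      | h0 => exact ⟨0, P.zero_mem, by simp, by simp⟩
      | hadd a a' ha ha' =>
        obtain ⟨p, hp, hp', hpy⟩ := ha
        obtain ⟨p', hq, hq', hqz⟩ := ha'
        exact ⟨p + p', P.add_mem hp hq, fun i hi => by rw [map_add, hp' i hi, hq' i hi, add_zero],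
          by rw [add_smul, map_add, map_add, hpy, hqz]⟩
      | hp e a ha =>
        rcases lt_or_ge e 0 with he | he
        · rw [hpos e he a ha]
          exact ⟨0, P.zero_mem, by simp, by simp⟩
        · obtain ⟨p, hp, hp', hpy⟩ := hy (n - e)
          refine ⟨a • p, P.smul_mem a hp, fun i hi => ?_, ?_⟩
          · rw [GrMod19.cmp_smul_homog_left 𝒜 ℳ i ha p, hp' (i - e) (by omega), smul_zero]
          · rw [GrMod19.cmp_smul_homog_left 𝒜 ℳ n ha p, GrMod19.cmp_smul_homog_left 𝒜 ℳ n ha y, hpy]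
  have hmono : ∀ P Q : Submodule R M, P ≤ Q → L P ≤ L Q := fun P Q h => Submodule.span_mono (Set.iUnion_mono
    fun n => fun y ⟨p, hp, hp', hpy⟩ => ⟨p, h hp, hp', hpy⟩)
  have hstrict : ∀ P Q : Submodule R M, P ≤ Q → L Q ≤ L P → Q ≤ P := by
    intro P Q hPQ hL
    suffices H : ∀ (e : ℕ) (n : ℤ), b + 1 ≤ n + e → ∀ q ∈ Q, (∀ i, i < n → cmp ℳ i q = 0) → q ∈ P by
      intro q hq
      obtain ⟨s, hs⟩ := GrMod19.exists_sum_cmp ℳ q
      obtain ⟨n, hn⟩ : ∃ n : ℤ, ∀ d ∈ s, n ≤ d := by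
        refine ⟨-∑ d ∈ s, |d|, fun d hd => ?_⟩
        have h1 := Finset.single_le_sum (f := fun d => |d|) (fun i _ => abs_nonneg _) hd
        have h2 := neg_abs_le d
        linarith
      refine H (b + 1 - n).toNat n (by omega) q hq fun i hi => ?_
      rw [← hs, map_sum]
      exact Finset.sum_eq_zero fun d hd => cmp_of_ne ℳ (cmp_mem ℳ d q) (by have := hn d hd; omega)
    intro e
    induction e with
    | zero =>
      intro n hn q _ hlo
      have : q = 0 := GrMod19.eq_zero_of_cmp ℳ fun i => by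
        rcases lt_or_ge i n with h | h
        · exact hlo i h
        · exact hb i (by omega) _ (cmp_mem ℳ i q)
      rw [this]
      exact P.zero_mem
    | succ e ih =>
      intro n hn q hq hlo
      have h1 : cmp ℳ n q ∈ low Q n := ⟨q, hq, hlo, rfl⟩
      obtain ⟨p, hp, hp', hpy⟩ := hlow P n _ (hL (Submodule.subset_span (Set.mem_iUnion.2 ⟨n, h1⟩)))
      rw [cmp_of_mem ℳ (cmp_mem ℳ n q)] at hpy
      have h2 := ih (n + 1) (by omega) (q - p) (Q.sub_mem hq (hPQ hp)) fun i hi => by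
        rcases lt_or_eq_of_le (show i ≤ n by omega) with h | rfl
        · rw [map_sub, hlo i h, hp' i h, sub_zero]
        · rw [map_sub, hpy, sub_self]
      simpa using P.add_mem h2 hp
  let Φ : Submodule R M → {P : Submodule R M // P.IsHomogeneous ℳ} := fun P => ⟨L P, hhom P⟩
  exact StrictMono.wellFoundedLT (f := Φ) fun P Q h => lt_of_le_not_ge (hmono P Q h.le)
    fun hL => not_le_of_gt h (hstrict P Q h.le hL)

end Groth.Agent.GrDual19
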