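import Groth.Agent.GrDual19.Basic
import Groth.Agent.GrMod19.QReg
import Mathlib.RingTheory.HopkinsLevitzki

/-!
Biduality for graded duals over a field.
-/

universe u

open DirectSum GrLC
open Groth.Agent.GrMod19 (cmp cmp_mem cmp_of_mem cmp_of_ne piece_induction NonnegGr)

namespace Groth.Agent.GrDual19

set_option autoImplicit false

variable {k : Type u} [Field k] {R : Type u} [CommRing R] [Algebra k R] {𝒜 : ℤ → Submodule k R}
  [GradedAlgebra 𝒜]
  {M : Type u} [AddCommGroup M] [Module R M] [Module k M] [IsScalarTower k R M]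
  {ℳ : ℤ → AddSubgroup M} [Decomposition ℳ] [SetLike.GradedSMul 𝒜 ℳ]
  {D : Type u} [AddCommGroup D] [Module R D] [Module k D] [IsScalarTower k R D]
  {𝒟 : ℤ → AddSubgroup D} [Decomposition 𝒟] [SetLike.GradedSMul 𝒜 𝒟] {β : D →ₗ[k] M →ₗ[k] k}

/-- for finite-dimensional pieces the transposed pairing presents the bidual -/
theorem isGDual_flip (hfin : ∀ n, Module.Finite k (kPiece 𝒜 ℳ n)) (hD : GrSeg.IsGDual R ℳ 𝒟 β) :
    GrSeg.IsGDual R 𝒟 ℳ β.flip where
  map_smul r x d := (hD.map_smul r d x).symm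
  vanish n x hx m hm d hd := hD.vanish m d hd n (by omega) x hx
  eq_zero n x hx h := by
    by_contra hne
    have hne' : (⟨x, hx⟩ : kPiece 𝒜 ℳ n) ≠ 0 := fun h => hne (congrArg Subtype.val h)
    obtain ⟨L, hL⟩ : ∃ L : M →ₗ[k] k, L x ≠ 0 :=
      not_forall.1 fun hall => hne ((Module.forall_dual_apply_eq_zero_iff k x).1 hall)
    obtain ⟨d, hd, hdx⟩ := hD.exists_eq (-n) L
    refine hL ?_
    rw [← hdx x (by rwa [neg_neg])]
    exact h d hd
  exists_eq n g := by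
    let S : kPiece 𝒜 𝒟 (-n) →ₗ[k] Module.Dual k (kPiece 𝒜 ℳ n) :=
      (β.compl₂ (kPiece 𝒜 ℳ n).subtype) ∘ₗ (kPiece 𝒜 𝒟 (-n)).subtype
    have hSi : Function.Injective S := (injective_iff_map_eq_zero S).2 fun d hd =>
      Subtype.ext (hD.eq_zero (-n) d.1 d.2 fun x hx => LinearMap.congr_fun hd ⟨x, neg_neg n ▸ hx⟩)
    have hSs : Function.Surjective S := fun φ => by
      obtain ⟨L, hL⟩ := LinearMap.exists_extend φ
      obtain ⟨d, hd, hdL⟩ := hD.exists_eq (-n) L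
      exact ⟨⟨d, hd⟩, LinearMap.ext fun x => (hdL x.1 ((neg_neg n).symm ▸ x.2)).trans (LinearMap.congr_fun hL x)⟩
    let e := LinearEquiv.ofBijective S ⟨hSi, hSs⟩
    let y := (Module.evalEquiv k (kPiece 𝒜 ℳ n)).symm (g ∘ₗ (kPiece 𝒜 𝒟 (-n)).subtype ∘ₗ e.symm.toLinearMap)
    refine ⟨y.1, y.2, fun d hd => ?_⟩
    have h := Module.apply_evalEquiv_symm_apply k (kPiece 𝒜 ℳ n) (e ⟨d, hd⟩)
      (g ∘ₗ (kPiece 𝒜 𝒟 (-n)).subtype ∘ₗ e.symm.toLinearMap)
    rw [LinearMap.comp_apply, LinearMap.comp_apply, LinearEquiv.coe_coe, e.symm_apply_apply] at h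
    exact h

/-- the annihilator of a submodule of the dual -/
def ann (hD : GrSeg.IsGDual R ℳ 𝒟 β) (P : Submodule R D) : Submodule R M where
  carrier := {x | ∀ p ∈ P, β p x = 0}
  add_mem' ha hb p hp := by rw [map_add, ha p hp, hb p hp, add_zero]
  zero_mem' p _ := map_zero _
  smul_mem' r x hx p hp := by rw [← hD.map_smul]; exact hx _ (P.smul_mem r hp)

omit [GradedAlgebra 𝒜] [SetLike.GradedSMul 𝒜 ℳ] [SetLike.GradedSMul 𝒜 𝒟] in
theorem ann_anti (hD : GrSeg.IsGDual R ℳ 𝒟 β) {P Q : Submodule R D} (h : P ≤ Q) : ann hD Q ≤ ann hD P :=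
  fun _ hx p hp => hx p (h hp)

/-- homogeneous submodules are determined by their annihilators -/
theorem le_of_ann_le (hfin : ∀ n, Module.Finite k (kPiece 𝒜 ℳ n)) (hD : GrSeg.IsGDual R ℳ 𝒟 β)
    {P : Submodule R D} (hP : P.IsHomogeneous 𝒟) {n : ℤ} {d : D} (hd : d ∈ 𝒟 n)
    (h : ∀ x ∈ ann hD P, β d x = 0) : d ∈ P := by
  by_contra hdP
  obtain ⟨L, hLd, hL⟩ := Submodule.exists_dual_map_eq_bot_of_notMem (p := P.restrictScalars k) (x := d) hdP
    inferInstance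
  have hL0 : ∀ p ∈ P, L p = 0 := fun p hp => (Submodule.mem_bot k).1 (hL ▸ Submodule.mem_map_of_mem hp)
  obtain ⟨x, -, hx⟩ := exists_beta_eq (isGDual_flip hfin hD) (n := -n) (L ∘ₗ cmpₗ 𝒜 𝒟 n) (fun j hj p hp => by
    show L (cmp 𝒟 n p) = 0
    rw [cmp_of_ne 𝒟 hp (by omega), map_zero])
  have hxv : ∀ p, β p x = L (cmp 𝒟 n p) := fun p => LinearMap.congr_fun hx p
  refine hLd ?_
  rw [← cmp_of_mem 𝒟 hd, ← hxv]
  exact h x fun p hp => by rw [hxv]; exact hL0 _ (hP n hp)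

/-- the dual of a finite module is Artinian -/
theorem isArtinian_dual [Algebra.FiniteType k R] (hpos : NonnegGr 𝒜)
    (h0R : 𝒜 0 = Submodule.span k {(1 : R)}) [Module.Finite R M] (hD : GrSeg.IsGDual R ℳ 𝒟 β) :
    IsArtinian R D := by
  have : IsNoetherianRing R := Algebra.FiniteType.isNoetherianRing k R
  obtain ⟨b, hb⟩ := exists_lower (𝒜 := 𝒜) (ℳ := ℳ) hpos
  have hfin := fun n => kPiece_finite (𝒜 := 𝒜) (ℳ := ℳ) hpos h0R n
  refine isArtinian_of_homogeneous (𝒜 := 𝒜) (ℳ := 𝒟) hpos (b := -b) (fun n hn d hd => hD.eq_zero n d hd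
    fun x hx => by rw [hb (-n) (by omega) x hx, map_zero]) ?_
  have : WellFoundedLT (Submodule R M)ᵒᵈ := ⟨(inferInstance : WellFoundedGT (Submodule R M)).wf⟩
  let Φ : {P : Submodule R D // P.IsHomogeneous 𝒟} → (Submodule R M)ᵒᵈ := fun P => OrderDual.toDual (ann hD P.1)
  refine StrictMono.wellFoundedLT (f := Φ) fun P Q h => lt_of_le_not_ge
    (show ann hD Q.1 ≤ ann hD P.1 from ann_anti hD h.le) fun hle => not_le_of_gt h fun q hq => ?_
  have hle' : ann hD P.1 ≤ ann hD Q.1 := hle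
  obtain ⟨s, hs⟩ := GrMod19.exists_sum_cmp 𝒟 q
  rw [← hs]
  exact Submodule.sum_mem _ fun n _ => le_of_ann_le hfin hD P.2 (cmp_mem 𝒟 n q)
    fun x hx => hle' hx _ (Q.2 n hq)

/-- the pieces of an Artinian graded module are finite-dimensional -/
theorem kPiece_finite_of_artinian (hpos : NonnegGr 𝒜) (h0R : 𝒜 0 = Submodule.span k {(1 : R)})
    [IsArtinian R M] (n : ℤ) : Module.Finite k (kPiece 𝒜 ℳ n) := by
  let up : Set M := {y | ∃ j, n < j ∧ y ∈ ℳ j}
  let Ψ : Submodule k (kPiece 𝒜 ℳ n) → Submodule R M := fun W =>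
    Submodule.span R (Subtype.val '' (W : Set (kPiece 𝒜 ℳ n)) ∪ up)
  have hkey : ∀ W, ∀ z ∈ Ψ W, ∃ w ∈ W, (w : M) = cmp ℳ n z := by
    intro W z hz
    have hstep : ∀ r : R, ∀ y ∈ Subtype.val '' (W : Set (kPiece 𝒜 ℳ n)) ∪ up,
        ∃ w ∈ W, (w : M) = cmp ℳ n (r • y) := by
      rintro r y (⟨w, hw, rfl⟩ | ⟨j, hj, hy⟩)
      · rw [GrMod19.cmp_smul_homog_right 𝒜 ℳ n w.2 r, sub_self]
        obtain ⟨c, hc⟩ := Submodule.mem_span_singleton.1 (h0R ▸ cmp_mem 𝒜 0 r :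
          cmp 𝒜 0 r ∈ Submodule.span k {(1 : R)})
        exact ⟨c • w, W.smul_mem c hw, by rw [← hc, smul_assoc, one_smul]; rfl⟩
      · rw [GrMod19.cmp_smul_homog_right 𝒜 ℳ n hy r, hpos _ (by omega) _ (cmp_mem 𝒜 _ r), zero_smul]
        exact ⟨0, W.zero_mem, rfl⟩
    obtain ⟨l, c, g, hg⟩ := Submodule.mem_span_set'.1 hz
    choose w hw hwe using fun i => hstep (c i) (g i) (g i).2
    exact ⟨∑ i, w i, sum_mem fun i _ => hw i, by
      rw [← hg, map_sum, Submodule.coe_sum]; exact Finset.sum_congr rfl fun i _ => hwe i⟩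
  have hmono : ∀ V W, V ≤ W → Ψ V ≤ Ψ W := fun V W h =>
    Submodule.span_mono (Set.union_subset_union_left _ (Set.image_mono h))
  have : IsArtinian k (kPiece 𝒜 ℳ n) := StrictMono.wellFoundedLT (f := Ψ) fun V W h =>
    lt_of_le_not_ge (hmono V W h.le) fun hle => not_le_of_gt h fun w hw => by
      obtain ⟨v, hv, hve⟩ := hkey V _ (hle (Submodule.subset_span (Or.inl ⟨w, hw, rfl⟩)))
      rw [cmp_of_mem ℳ w.2] at hve
      rwa [← Subtype.ext hve]
  have : IsNoetherian k (kPiece 𝒜 ℳ n) := IsSemiprimaryRing.isNoetherian_iff_isArtinian.2 this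
  infer_instance

/-- the dual of an Artinian module is finite -/
theorem finite_dual [Algebra.FiniteType k R] (hpos : NonnegGr 𝒜) (h0R : 𝒜 0 = Submodule.span k {(1 : R)})
    [IsArtinian R M] (hD : GrSeg.IsGDual R ℳ 𝒟 β) : Module.Finite R D := by
  have hfin := fun n => kPiece_finite_of_artinian (𝒜 := 𝒜) (ℳ := ℳ) hpos h0R n
  obtain ⟨_, ⟨P, hPfg, hPh, rfl⟩, hmin⟩ := IsArtinian.set_has_minimal
    {A : Submodule R M | ∃ P : Submodule R D, P.FG ∧ P.IsHomogeneous 𝒟 ∧ ann hD P = A}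
    ⟨_, ⊥, Submodule.fg_bot, fun i z hz => by
      rw [(Submodule.mem_bot R).1 hz]
      show cmp 𝒟 i (0 : D) ∈ (⊥ : Submodule R D)
      rw [map_zero]
      exact zero_mem _, rfl⟩
  refine ⟨(show (⊤ : Submodule R D) = P from ?_) ▸ hPfg⟩
  refine eq_comm.1 (eq_top_iff.2 fun d htop => ?_)
  clear htop
  induction d using piece_induction 𝒟 with
  | h0 => exact P.zero_mem
  | hadd a b ha hb => exact P.add_mem ha hb
  | hp n d hd =>
    refine le_of_ann_le hfin hD hPh hd fun x hx => ?_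
    have hle : ann hD (P ⊔ Submodule.span R {d}) ≤ ann hD P := ann_anti hD le_sup_left
    have heq : ann hD (P ⊔ Submodule.span R {d}) = ann hD P := by
      refine hle.eq_of_not_lt (hmin _ ⟨_, hPfg.sup (Submodule.fg_span_singleton d), ?_, rfl⟩)
      intro i z hz
      obtain ⟨p, hp, q, hq, rfl⟩ := Submodule.mem_sup.1 hz
      show cmp 𝒟 i (p + q) ∈ _
      rw [map_add]
      exact Submodule.add_mem_sup (hPh i hp)
        (GrMod19.isHomogeneous_span (𝒜 := 𝒜) 𝒟 (by rintro y rfl; exact ⟨n, hd⟩) i hq)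
    rw [← heq] at hx
    exact hx d (Submodule.mem_sup_right (Submodule.mem_span_singleton_self d))

end Groth.Agent.GrDual19
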