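import Groth.Agent.GrMod19.Les
import Groth.Agent.GrMod19.StarInj
import Groth.Agent.GrMod19.Van
import Groth.Agent.LC15.Dim

/-!
Top graded local cohomology of a finitely presented graded module as a cokernel.
-/

universe u

open DirectSum

namespace Groth.Agent.GrDual19

set_option autoImplicit false

open Groth.Agent.GrMod19 (cmp cmp_mem piece_induction hMap)

variable {ι : Type} [AddCommGroup ι] [DecidableEq ι]
variable {R : Type u} [CommRing R] {σ : Type u} [SetLike σ R] [AddSubgroupClass σ R] {𝒜 : ι → σ} [GradedRing 𝒜]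
variable {M : Type u} [AddCommGroup M] [Module R M] {τ : Type u} [SetLike τ M] [AddSubgroupClass τ M]
  {ℳ : ι → τ} [Decomposition ℳ] [SetLike.GradedSMul 𝒜 ℳ]
  {N : Type u} [AddCommGroup N] [Module R N] {τ' : Type u} [SetLike τ' N] [AddSubgroupClass τ' N]
  {𝒩 : ι → τ'} [Decomposition 𝒩] [SetLike.GradedSMul 𝒜 𝒩]
  (E : GrLC.StarInjRes 𝒜 ℳ) (F : GrLC.StarInjRes 𝒜 𝒩) (a : HomogeneousIdeal 𝒜)

theorem hMap_add {f g : M →ₗ[R] N} {d : ι} (hf : GrLC.IsGrHomDeg ℳ 𝒩 f d) (hg : GrLC.IsGrHomDeg ℳ 𝒩 g d)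
    (h : GrLC.IsGrHomDeg ℳ 𝒩 (f + g) d) (i : ℕ) :
    hMap E F a (f + g) h i = hMap E F a f hf i + hMap E F a g hg i := by
  let φ := GrMod19.lift E F f hf
  let ψ := GrMod19.lift E F g hg
  let χ : GrMod19.ChainMap E F (f + g) d :=
    { map := fun n => φ.map n + ψ.map n
      deg := fun n j m hm => add_mem (φ.deg n j m hm) (ψ.deg n j m hm)
      comm := fun n x => by simp [φ.comm, ψ.comm]
      aug := fun m => by simp [φ.aug, ψ.aug] }
  rw [GrMod19.hMap_eq χ a h i]
  refine Submodule.linearMap_qext _ (LinearMap.ext fun z => ?_)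
  exact ((F.toH a i).map_add ⟨φ.map i z, φ.map_cocyc a i z.2⟩ ⟨ψ.map i z, ψ.map_cocyc a i z.2⟩)

theorem hMap_zero (d : ι) (h : GrLC.IsGrHomDeg ℳ 𝒩 (0 : M →ₗ[R] N) d) (i : ℕ) :
    hMap E F a (0 : M →ₗ[R] N) h i = 0 := by
  have h1 := hMap_add E F a h h (by rwa [add_zero]) i
  rw [GrMod19.hMap_congr a (add_zero (0 : M →ₗ[R] N)) rfl _ h] at h1
  simpa using h1

theorem hMap_sum {β : Type*} (s : Finset β) (f : β → M →ₗ[R] N) {d : ι}
    (hf : ∀ b, GrLC.IsGrHomDeg ℳ 𝒩 (f b) d) (h : GrLC.IsGrHomDeg ℳ 𝒩 (∑ b ∈ s, f b) d) (i : ℕ) :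
    hMap E F a (∑ b ∈ s, f b) h i = ∑ b ∈ s, hMap E F a (f b) (hf b) i := by
  classical
  induction s using Finset.induction with
  | empty => exact hMap_zero E F a d h i
  | insert b s hb ih =>
    have hs : GrLC.IsGrHomDeg ℳ 𝒩 (∑ c ∈ s, f c) d := fun j m hm => by
      rw [LinearMap.sum_apply]
      exact sum_mem fun c _ => hf c j m hm
    rw [GrMod19.hMap_congr a (Finset.sum_insert hb) rfl h (fun j m hm => add_mem (hf b j m hm) (hs j m hm)),
      hMap_add E F a (hf b) hs, ih hs, Finset.sum_insert hb]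

omit [Decomposition ℳ] in
theorem spanSingleton_deg {j : ι} {z : M} (hz : z ∈ ℳ j) :
    GrLC.IsGrHomDeg 𝒜 ℳ (LinearMap.toSpanSingleton R M z) j :=
  fun _ _ hr => GrMod19.smul_mem_add 𝒜 ℳ hr hz

variable (I : GrLC.StarInjRes 𝒜 𝒜) (n : ℕ)

/-- the map on one piece -/
noncomputable def actPiece (j : ι) : ℳ j →+ (I.H a n →ₗ[R] E.H a n) :=
  AddMonoidHom.mk' (fun z => hMap I E a (LinearMap.toSpanSingleton R M z) (spanSingleton_deg z.2) n) fun z w => by
    have hsum : LinearMap.toSpanSingleton R M ((z + w : ℳ j) : M) =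
        LinearMap.toSpanSingleton R M (z : M) + LinearMap.toSpanSingleton R M (w : M) :=
      LinearMap.ext fun r => smul_add r (z : M) (w : M)
    rw [GrMod19.hMap_congr a hsum rfl _ fun i r hr =>
      add_mem (spanSingleton_deg z.2 i r hr) (spanSingleton_deg w.2 i r hr), hMap_add]

/-- an element acts from the cohomology of the ring to the cohomology of the module, additively -/
noncomputable def actAdd : M →+ (I.H a n →ₗ[R] E.H a n) :=
  (DirectSum.toAddMonoid (actPiece E a I n)).comp (decomposeAddEquiv ℳ).toAddMonoidHom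

theorem actAdd_of_mem {j : ι} {z : M} (hz : z ∈ ℳ j) :
    actAdd E a I n z = hMap I E a (LinearMap.toSpanSingleton R M z) (spanSingleton_deg hz) n := by
  show DirectSum.toAddMonoid (actPiece E a I n) (decompose ℳ z) = _
  rw [show decompose ℳ z = DirectSum.of _ j ⟨z, hz⟩ from decompose_coe ℳ ⟨z, hz⟩, DirectSum.toAddMonoid_of]
  rfl

/-- an element acts from the cohomology of the ring to the cohomology of the module -/
noncomputable def act : M →ₗ[R] I.H a n →ₗ[R] E.H a n where
  toFun := actAdd E a I n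
  map_add' := map_add _
  map_smul' r z := by
    rw [RingHom.id_apply]
    induction r using piece_induction 𝒜 with
    | h0 => simp
    | hadd x y hx hy => rw [add_smul, map_add, hx, hy, add_smul]
    | hp i r hr =>
      induction z using piece_induction ℳ with
      | h0 => simp
      | hadd x y hx hy => rw [smul_add, map_add, hx, hy, map_add, smul_add]
      | hp j z hz =>
        have hd : GrLC.IsGrHomDeg 𝒜 𝒜 (r • LinearMap.id : R →ₗ[R] R) i := fun g x hx => by
          rw [LinearMap.smul_apply, LinearMap.id_apply, add_comm]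
          exact GrMod19.smul_mem_add 𝒜 𝒜 hr hx
        have hcomp : LinearMap.toSpanSingleton R M (r • z) =
            LinearMap.toSpanSingleton R M z ∘ₗ (r • LinearMap.id : R →ₗ[R] R) :=
          LinearMap.ext fun x => by
            simp [smul_smul, mul_comm r x]
        rw [actAdd_of_mem E a I n (GrMod19.smul_mem_add 𝒜 ℳ hr hz), actAdd_of_mem E a I n hz,
          GrMod19.hMap_congr a hcomp rfl _ (GrMod19.IsGrHomDeg.comp (spanSingleton_deg hz) hd),
          ← GrMod19.hMap_comp (E := I) (F := I) (G := E) a hd (spanSingleton_deg hz) n, GrMod19.hMap_smul a hr]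
        exact LinearMap.ext fun x => LinearMap.map_smul (hMap I E a (LinearMap.toSpanSingleton R M z) (spanSingleton_deg hz) n) r x

theorem act_of_mem {j : ι} {z : M} (hz : z ∈ ℳ j) :
    act E a I n z = hMap I E a (LinearMap.toSpanSingleton R M z) (spanSingleton_deg hz) n :=
  actAdd_of_mem E a I n hz

theorem act_deg {j : ι} {z : M} (hz : z ∈ ℳ j) :
    GrLC.IsGrHomDeg (I.Hgr a n) (E.Hgr a n) (act E a I n z) j := by
  rw [act_of_mem E a I n hz]
  exact GrMod19.hMap_deg a _ n

variable [IsNoetherianRing R] (hcd : LocCoh.CdLE R a.toIdeal n)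
  {p : ℕ} {deg : Fin p → ι} {g : Fin p → M} (hg : ∀ b, g b ∈ ℳ (deg b))
  (hspan : Submodule.span R (Set.range g) = ⊤)

/-- the generators of the free module -/
theorem single_mem (b : Fin p) : (Pi.single b 1 : Fin p → R) ∈ GrMod19.freePiece 𝒜 deg (deg b) := fun c => by
  rcases eq_or_ne c b with rfl | h
  · rw [Pi.single_eq_same, sub_self]
    exact SetLike.GradedOne.one_mem
  · rw [Pi.single_eq_of_ne h]
    exact zero_mem _

include hcd hg hspan in
theorem exists_cover : ∃ (F : GrLC.StarInjRes 𝒜 (GrMod19.free 𝒜 deg).gr)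
    (π : (GrMod19.free 𝒜 deg).carrier →ₗ[R] M) (hπ : GrLC.IsGrHom (GrMod19.free 𝒜 deg).gr ℳ π),
    (∀ v : Fin p → R, π v = ∑ b, v b • g b) ∧ Function.Surjective π ∧
    Function.Surjective (hMap F E a π (GrMod19.isGrHomDeg_zero_iff.2 hπ) n) ∧
    (∀ x, ∃ h : Fin p → I.H a n, ∑ b, act F a I n (Pi.single b 1) (h b) = x) ∧
    (∀ (b : Fin p) (h : I.H a n), hMap F E a π (GrMod19.isGrHomDeg_zero_iff.2 hπ) n
      (act F a I n (Pi.single b 1) h) = act E a I n (g b) h) := by
  classical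
  obtain ⟨F⟩ := GrInj18.nonempty_starInjRes 𝒜 (GrMod19.free 𝒜 deg).gr
  let π : (GrMod19.free 𝒜 deg).carrier →ₗ[R] M := Fintype.linearCombination R g
  have hπ : GrLC.IsGrHom (GrMod19.free 𝒜 deg).gr ℳ π := fun e v hv => by
    show Fintype.linearCombination R g v ∈ ℳ e
    rw [Fintype.linearCombination_apply]
    refine sum_mem fun b _ => ?_
    have := GrMod19.smul_mem_add 𝒜 ℳ (hv b) (hg b)
    rwa [sub_add_cancel] at this
  have hπs : Function.Surjective π := LinearMap.range_eq_top.1 ((Fintype.range_linearCombination R g).trans hspan)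
  have hhom : (LinearMap.ker π).IsHomogeneous (GrMod19.free 𝒜 deg).gr := GrMod19.isHomogeneous_ker _ _ hπ
  let K := GrMod19.sub (𝒜 := 𝒜) (GrMod19.free 𝒜 deg).gr (LinearMap.ker π) hhom
  obtain ⟨EK⟩ := GrInj18.nonempty_starInjRes 𝒜 K.gr
  let inK : K.carrier →ₗ[R] (GrMod19.free 𝒜 deg).carrier := (LinearMap.ker π).subtype
  have S : GrMod19.Ses K.gr (GrMod19.free 𝒜 deg).gr ℳ inK π 0 :=
    ⟨GrMod19.isGrHomDeg_zero_iff.2 (GrMod19.sub_subtype_grHom _ _ hhom), hπ, Submodule.injective_subtype _,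
      LinearMap.exact_subtype_ker_map π, hπs⟩
  obtain ⟨δ, -, -, hlast, -, -⟩ := GrMod19.exists_les EK F E S a
  have hsub : Subsingleton (EK.H a (n + 1)) := by
    obtain ⟨e⟩ := GrMod19.nonempty_H_equiv EK a (n + 1)
    have := hcd K.carrier (n + 1) (Nat.lt_succ_self n)
    exact e.toEquiv.subsingleton
  refine ⟨F, π, hπ, fun v => Fintype.linearCombination_apply R g v, hπs,
    fun y => (hlast n y).1 (Subsingleton.elim _ _), fun x => ?_, fun b h => ?_⟩
  · let prj : Fin p → ((GrMod19.free 𝒜 deg).carrier →ₗ[R] R) := fun b => LinearMap.proj b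
    have hprj : ∀ b, GrLC.IsGrHomDeg (GrMod19.free 𝒜 deg).gr 𝒜 (prj b) (-deg b) := fun b e v hv => by
      rw [← sub_eq_add_neg]
      exact hv b
    refine ⟨fun b => hMap F I a (prj b) (hprj b) n x, ?_⟩
    let q : Fin p → ((GrMod19.free 𝒜 deg).carrier →ₗ[R] (GrMod19.free 𝒜 deg).carrier) :=
      fun b => LinearMap.toSpanSingleton R (GrMod19.free 𝒜 deg).carrier (Pi.single b 1) ∘ₗ prj b
    have hq : ∀ b, GrLC.IsGrHomDeg (GrMod19.free 𝒜 deg).gr (GrMod19.free 𝒜 deg).gr (q b) 0 := fun b => by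
      have h := GrMod19.IsGrHomDeg.comp (spanSingleton_deg (𝒜 := 𝒜) (ℳ := (GrMod19.free 𝒜 deg).gr)
        (single_mem b)) (hprj b)
      rwa [neg_add_cancel] at h
    have hqid : (∑ b, q b) = LinearMap.id := LinearMap.ext fun v => by
      rw [LinearMap.sum_apply]
      show ∑ b, v b • (Pi.single b 1 : Fin p → R) = v
      exact (pi_eq_sum_univ' v).symm
    have hid : GrLC.IsGrHomDeg (GrMod19.free 𝒜 deg).gr (GrMod19.free 𝒜 deg).gr
        (LinearMap.id : (GrMod19.free 𝒜 deg).carrier →ₗ[R] _) 0 :=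
      fun _ _ hm => by rwa [add_zero]
    have hs : GrLC.IsGrHomDeg (GrMod19.free 𝒜 deg).gr (GrMod19.free 𝒜 deg).gr (∑ b, q b) 0 := by rw [hqid]; exact hid
    have h1 : (∑ b, hMap F F a (q b) (hq b) n) x = x := by
      rw [← hMap_sum F F a _ q hq hs, GrMod19.hMap_congr a hqid rfl hs hid, GrMod19.hMap_id]
      rfl
    refine Eq.trans (Finset.sum_congr rfl fun b _ => ?_) ((LinearMap.sum_apply _ _ _).symm.trans h1)
    rw [act_of_mem F a I n (j := deg b) (single_mem b), ← LinearMap.comp_apply, GrMod19.hMap_comp]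
    exact LinearMap.congr_fun (GrMod19.hMap_congr a rfl (neg_add_cancel (deg b)) _ (hq b) n) x
  · have hc : π ∘ₗ LinearMap.toSpanSingleton R (GrMod19.free 𝒜 deg).carrier (Pi.single b 1) =
        LinearMap.toSpanSingleton R M (g b) := by
      refine LinearMap.ext_ring ?_
      show π ((1 : R) • (Pi.single b 1 : Fin p → R)) = (1 : R) • g b
      rw [one_smul, one_smul]
      exact (Fintype.linearCombination_apply_single R g b 1).trans (one_smul _ _)
    rw [act_of_mem F a I n (j := deg b) (single_mem b), act_of_mem E a I n (hg b), ← LinearMap.comp_apply,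
      GrMod19.hMap_comp]
    exact LinearMap.congr_fun (GrMod19.hMap_congr a hc (add_zero (deg b)) _ _ n) h

include hcd hg hspan in
theorem exists_top_gen (y : E.H a n) : ∃ h : Fin p → I.H a n, ∑ b, act E a I n (g b) (h b) = y := by
  obtain ⟨F, π, hπ, -, -, hsurj, hgen, hcomp⟩ := exists_cover E a I n hcd hg hspan
  obtain ⟨x, rfl⟩ := hsurj y
  obtain ⟨h, rfl⟩ := hgen x
  exact ⟨h, by simp_rw [map_sum, hcomp]⟩

include hcd hg hspan in
theorem exists_top_rel {h : Fin p → I.H a n} (hh : ∑ b, act E a I n (g b) (h b) = 0) :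
    ∃ (q : ℕ) (z : Fin q → Fin p → R) (h' : Fin q → I.H a n),
      (∀ l, ∑ b, z l b • g b = 0) ∧ ∀ b, h b = ∑ l, z l b • h' l := by
  classical
  obtain ⟨F, π, hπ, hπa, hπs, -, -, hcomp⟩ := exists_cover E a I n hcd hg hspan
  have hhom : (LinearMap.ker π).IsHomogeneous (GrMod19.free 𝒜 deg).gr := GrMod19.isHomogeneous_ker _ _ hπ
  let K := GrMod19.sub (𝒜 := 𝒜) (GrMod19.free 𝒜 deg).gr (LinearMap.ker π) hhom
  obtain ⟨EK⟩ := GrInj18.nonempty_starInjRes 𝒜 K.gr
  let inK : K.carrier →ₗ[R] (GrMod19.free 𝒜 deg).carrier := (LinearMap.ker π).subtype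
  have hin : GrLC.IsGrHom K.gr (GrMod19.free 𝒜 deg).gr inK := GrMod19.sub_subtype_grHom _ _ hhom
  have S : GrMod19.Ses K.gr (GrMod19.free 𝒜 deg).gr ℳ inK π 0 :=
    ⟨GrMod19.isGrHomDeg_zero_iff.2 hin, hπ, Submodule.injective_subtype _, LinearMap.exact_subtype_ker_map π, hπs⟩
  obtain ⟨δ, -, hmid, -, -, -⟩ := GrMod19.exists_les EK F E S a
  let x := ∑ b, act F a I n (Pi.single b 1) (h b)
  have hx : hMap F E a π (GrMod19.isGrHomDeg_zero_iff.2 hπ) n x = 0 := by
    simp_rw [x, map_sum, hcomp]; exact hh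
  obtain ⟨w, hw⟩ := (hmid n x).1 hx
  have hNF : IsNoetherian R (GrMod19.free 𝒜 deg).carrier := inferInstanceAs (IsNoetherian R (Fin p → R))
  have hfin : Module.Finite R K.carrier := inferInstanceAs (Module.Finite R (LinearMap.ker π))
  obtain ⟨q, e, z, hz, hzspan⟩ := GrMod19.exists_homog_generators 𝒜 K.gr (⊤ : Submodule R K.carrier)
    (fun _ _ _ => trivial) Module.Finite.fg_top
  obtain ⟨_, _, _, -, -, -, hgenK, hcompK⟩ := exists_cover EK a I n hcd hz hzspan
  obtain ⟨h', hh'⟩ := exists_top_gen EK a I n hcd hz hzspan w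
  refine ⟨q, fun l => inK (z l), h', fun l => (hπa (inK (z l))).symm.trans (z l).2, fun c => ?_⟩
  have hmap : ∀ l, ∀ r, hMap EK F a inK (GrMod19.isGrHomDeg_zero_iff.2 hin) n (act EK a I n (z l) r) =
      act F a I n (inK (z l)) r := fun l r => by
    have hd : inK (z l) ∈ (GrMod19.free 𝒜 deg).gr (e l) := hin _ _ (hz l)
    rw [act_of_mem EK a I n (hz l), act_of_mem F a I n hd, ← LinearMap.comp_apply, GrMod19.hMap_comp]
    refine LinearMap.congr_fun (GrMod19.hMap_congr a ?_ (add_zero (e l)) _ _ n) r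
    exact LinearMap.ext fun s => map_smul inK s (z l)
  rw [← hh', map_sum] at hw
  simp_rw [hmap] at hw
  let prj : (GrMod19.free 𝒜 deg).carrier →ₗ[R] R := LinearMap.proj c
  have hprj : GrLC.IsGrHomDeg (GrMod19.free 𝒜 deg).gr 𝒜 prj (-deg c) := fun e v hv => by
    rw [← sub_eq_add_neg]
    exact hv c
  have hev : ∀ (v : Fin p → R) (r : I.H a n), hMap F I a prj hprj n (act F a I n v r) = v c • r := by
    intro v r
    induction v using piece_induction (GrMod19.free 𝒜 deg).gr with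
    | h0 =>
      rw [map_zero, LinearMap.zero_apply, map_zero]
      exact (zero_smul R r).symm
    | hadd u v hu hv =>
      rw [map_add, LinearMap.add_apply, map_add, hu, hv]
      exact (add_smul _ _ r).symm
    | hp j v hv =>
      have hvc : v c ∈ 𝒜 (j + -deg c) := by rw [← sub_eq_add_neg]; exact hv c
      have hd : GrLC.IsGrHomDeg 𝒜 𝒜 (v c • LinearMap.id : R →ₗ[R] R) (j + -deg c) := fun i s hs => by
        rw [LinearMap.smul_apply, LinearMap.id_apply, add_comm]
        exact GrMod19.smul_mem_add 𝒜 𝒜 hvc hs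
      rw [act_of_mem F a I n hv, ← LinearMap.comp_apply, GrMod19.hMap_comp,
        GrMod19.hMap_congr a (f' := v c • LinearMap.id) (LinearMap.ext fun s => ?_) rfl _ hd,
        GrMod19.hMap_smul a hvc]
      · rfl
      · show prj (s • v) = v c • s
        rw [map_smul, smul_eq_mul, smul_eq_mul, mul_comm]
        rfl
  have h3 := congrArg (hMap F I a prj hprj n) hw
  simp only [x, map_sum, hev] at h3
  rw [h3, Finset.sum_eq_single c]
  · rw [Pi.single_eq_same, one_smul]
  · exact fun b _ hb => by rw [Pi.single_eq_of_ne (Ne.symm hb), zero_smul]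
  · exact fun hc => absurd (Finset.mem_univ c) hc

end Groth.Agent.GrDual19
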